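import Cfsg.Agent.SignalizersComponents.Components
import Cfsg.Agent.SignalizersComponents.IntrinsicDiag
import Cfsg.Agent.Lib.GenFitting

/-!
# S3384, piece J: classes of subgroups with `F*(H) = Ω`

`G` finite, `Ω` simple, two classes of subgroups isomorphic to `Ω`, with `|N(X₁) : X₁| = 12`, `|N(X₂) : X₂| = 4` and
trivial centralisers: the numbers of classes of the subgroups `H` with `F*(H) ≅ Ω` of index 3, 4, 12.
-/

set_option autoImplicit false
set_option linter.unusedSectionVars false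

namespace Cfsg.Agent.H96.EE

open Subgroup Cfsg Cfsg.Agent.SignalizersComponents

universe u v

theorem genFit_eq {A : Type*} [Group A] [Finite A] {N : Subgroup A} (hN : N.Normal) (hs : IsSimpleGroup N)
    (hna : ¬ IsMulCommutative N) (hc : centralizer (N : Set A) = ⊥) : generalizedFittingSubgroup A = N := by
  have hNc : IsComponent N := ⟨hN.isSubnormal, IntrinsicDiag.quasisimple_of_simple hs hna⟩
  have hNl : N ≤ layer A := Components.component_le_layer hNc
  have hl : layer A ≤ N := by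
    rw [Components.layer_le_iff]
    intro L hL
    by_contra hne
    have hLN : L ≠ N := fun h => hne (h ▸ le_rfl)
    have h1 := Components.component_le_centralizer_of_ne hL hNc hLN
    rw [hc, le_bot_iff] at h1
    exact Components.component_ne_bot hL h1
  have hf : fittingSubgroup A ≤ N := by
    have h1 : fittingSubgroup A ≤ centralizer (N : Set A) := by
      rw [le_centralizer_iff]
      exact hNl.trans Components.layer_le_centralizer_fitting
    rw [hc, le_bot_iff] at h1
    rw [h1]; exact bot_le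
  exact le_antisymm (sup_le hl hf) (hNl.trans le_sup_left)

variable {G : Type u} [Group G]

/-- conjugate subgroups -/
abbrev cj (g : G) (H : Subgroup G) : Subgroup G := H.map (MulAut.conj g).toMonoidHom

theorem cj_cj (g h : G) (H : Subgroup G) : cj g (cj h H) = cj (g * h) H := by
  unfold cj
  rw [map_map, map_mul]
  rfl

theorem cj_one (H : Subgroup G) : cj 1 H = H := by
  unfold cj
  rw [map_one]
  exact map_id H

theorem cj_inv_cj (g : G) (H : Subgroup G) : cj g⁻¹ (cj g H) = H := by rw [cj_cj, inv_mul_cancel, cj_one]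

theorem mem_cj {g : G} {H : Subgroup G} {x : G} : x ∈ cj g H ↔ g⁻¹ * x * g ∈ H := by
  constructor
  · rintro ⟨y, hy, rfl⟩
    have e : g⁻¹ * (MulAut.conj g).toMonoidHom y * g = y := by
      show g⁻¹ * (g * y * g⁻¹) * g = y
      group
    rw [e]; exact hy
  · intro h
    refine ⟨_, h, ?_⟩
    show g * (g⁻¹ * x * g) * g⁻¹ = x
    group

theorem cj_mono {g : G} {H K : Subgroup G} (h : H ≤ K) : cj g H ≤ cj g K := Subgroup.map_mono h

theorem cj_eq_self {g : G} {H : Subgroup G} (h : g ∈ normalizer (H : Set G)) : cj g H = H := by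
  ext x
  rw [mem_cj]
  have h1 := (mem_normalizer_iff.1 (inv_mem h)) x
  rw [inv_inv] at h1
  exact h1.symm

theorem cj_normalizer (g : G) (X : Subgroup G) : cj g (normalizer (X : Set G)) ≤ normalizer (cj g X : Set G) := by
  intro x hx
  rw [mem_cj] at hx
  rw [mem_normalizer_iff]
  intro y
  have h1 := (mem_normalizer_iff.1 hx) (g⁻¹ * y * g)
  change y ∈ cj g X ↔ x * y * x⁻¹ ∈ cj g X
  rw [mem_cj, mem_cj]
  have e : g⁻¹ * (x * y * x⁻¹) * g = g⁻¹ * x * g * (g⁻¹ * y * g) * (g⁻¹ * x * g)⁻¹ := by group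
  rw [e]
  exact h1

/-- `X ≤ H ≤ N(X)` and `|H : X| = m` -/
structure Sit (m : ℕ) (X H : Subgroup G) : Prop where
  le : X ≤ H
  nor : H ≤ normalizer (X : Set G)
  idx : X.relIndex H = m

theorem Sit.cj {m : ℕ} {X H : Subgroup G} (h : Sit m X H) (g : G) : Sit m (cj g X) (cj g H) where
  le := cj_mono h.le
  nor := (cj_mono h.nor).trans (cj_normalizer g X)
  idx := by
    rw [← h.idx]
    exact relIndex_map_map_of_injective X H (MulAut.conj g).injective

/-! ### Sylow subgroups of the quotient -/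

theorem ex_conj {Q : Type*} [Group Q] [Finite Q] {p k n : ℕ} (hp : p.Prime) (hn : Nat.card Q = n)
    (h : n.factorization p = k) : (∃ K : Subgroup Q, Nat.card K = p ^ k) ∧
      ∀ K K' : Subgroup Q, Nat.card K = p ^ k → Nat.card K' = p ^ k →
        ∃ q : Q, K.map (MulAut.conj q).toMonoidHom = K' := by
  have := Fact.mk hp
  have hk : (Nat.card Q).factorization p = k := by rw [hn, h]
  constructor
  · obtain ⟨P⟩ : Nonempty (Sylow p Q) := inferInstance
    exact ⟨P, by rw [P.card_eq_multiplicity, hk]⟩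
  · intro K K' hK hK'
    obtain ⟨q, hq⟩ := MulAction.exists_smul_eq Q (Sylow.ofCard K (by rw [hK, hk])) (Sylow.ofCard K' (by rw [hK', hk]))
    exact ⟨q, congrArg (fun P : Sylow p Q => (P : Subgroup Q)) hq⟩

theorem ex_conj_top {Q : Type*} [Group Q] [Finite Q] {n : ℕ} (hn : Nat.card Q = n) :
    (∃ K : Subgroup Q, Nat.card K = n) ∧
      ∀ K K' : Subgroup Q, Nat.card K = n → Nat.card K' = n →
        ∃ q : Q, K.map (MulAut.conj q).toMonoidHom = K' := by
  refine ⟨⟨⊤, by rw [card_top, hn]⟩, fun K K' hK hK' => ⟨1, ?_⟩⟩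
  rw [card_eq_iff_eq_top K |>.1 (hK.trans hn.symm), card_eq_iff_eq_top K' |>.1 (hK'.trans hn.symm), map_one]
  exact map_id _

section

variable [Finite G] (X : Subgroup G)

/-- the quotient `N(X) / X` -/
abbrev NQ : Type u := ↥(normalizer (X : Set G)) ⧸ X.subgroupOf (normalizer (X : Set G))

instance : (X.subgroupOf (normalizer (X : Set G))).Normal := normal_in_normalizer

theorem card_NQ {n : ℕ} (hn : Nat.card ↥(normalizer (X : Set G)) = n * Nat.card X) : Nat.card (NQ X) = n := by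
  have h1 := (X.subgroupOf (normalizer (X : Set G))).card_mul_index
  have h2 : Nat.card ↥(X.subgroupOf (normalizer (X : Set G))) = Nat.card X :=
    Nat.card_congr (subgroupOfEquivOfLe le_normalizer).toEquiv
  rw [h2, hn, index_eq_card, mul_comm n] at h1
  exact Nat.eq_of_mul_eq_mul_left Nat.card_pos h1

variable {X}

theorem relIndex_sub {L : Subgroup ↥(normalizer (X : Set G))} :
    X.relIndex (L.map (normalizer (X : Set G)).subtype) = (X.subgroupOf (normalizer (X : Set G))).relIndex L := by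
  have h := relIndex_map_map_of_injective (X.subgroupOf (normalizer (X : Set G))) L
    (normalizer (X : Set G)).subtype_injective
  have hX : (X.subgroupOf (normalizer (X : Set G))).map (normalizer (X : Set G)).subtype = X := by
    rw [subgroupOf_map_subtype, inf_eq_left.2 le_normalizer]
  rwa [hX] at h

theorem card_map_mk {L : Subgroup ↥(normalizer (X : Set G))} :
    Nat.card ↥(L.map (QuotientGroup.mk' (X.subgroupOf (normalizer (X : Set G))))) =
      (X.subgroupOf (normalizer (X : Set G))).relIndex L := by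
  have h := relIndex_comap (⊥ : Subgroup (NQ X)) (QuotientGroup.mk' (X.subgroupOf (normalizer (X : Set G)))) L
  rw [MonoidHom.comap_bot, QuotientGroup.ker_mk', relIndex_bot_left] at h
  exact h.symm

theorem exists_sit (K : Subgroup (NQ X)) : ∃ H : Subgroup G, Sit (Nat.card K) X H := by
  let N := normalizer (X : Set G)
  let π := QuotientGroup.mk' (X.subgroupOf N)
  have hk : X.subgroupOf N ≤ K.comap π := by
    intro y hy
    rw [mem_comap, show π y = 1 from (QuotientGroup.eq_one_iff y).2 hy]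
    exact one_mem _
  refine ⟨(K.comap π).map N.subtype, ?_, map_subtype_le _, ?_⟩
  · have h1 : (X.subgroupOf N).map N.subtype = X := by
      rw [subgroupOf_map_subtype, inf_eq_left.2 le_normalizer]
    exact h1.symm.le.trans (Subgroup.map_mono hk)
  · rw [relIndex_sub, ← card_map_mk]
    rw [map_comap_eq_self_of_surjective (QuotientGroup.mk'_surjective _)]

theorem Sit.conj {m : ℕ} {H H' : Subgroup G} (h : Sit m X H) (h' : Sit m X H')
    (hc : ∀ K K' : Subgroup (NQ X), Nat.card K = m → Nat.card K' = m →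
        ∃ q, K.map (MulAut.conj q).toMonoidHom = K') : ∃ g : G, EE.cj g H = H' := by
  let N := normalizer (X : Set G)
  let π := QuotientGroup.mk' (X.subgroupOf N)
  have key : ∀ {H : Subgroup G}, Sit m X H → Nat.card ↥((H.subgroupOf N).map π) = m := by
    intro H h
    rw [card_map_mk, ← relIndex_sub, subgroupOf_map_subtype, inf_eq_left.2 h.nor, h.idx]
  have mem : ∀ {H : Subgroup G}, Sit m X H → ∀ y : N, π y ∈ (H.subgroupOf N).map π ↔ (y : G) ∈ H := by
    intro H h y
    constructor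
    · rintro ⟨z, hz, he⟩
      have h1 : z⁻¹ * y ∈ X.subgroupOf N := QuotientGroup.eq.1 he
      have h2 : (z : G)⁻¹ * y ∈ H := h.le h1
      have h3 : (z : G) ∈ H := hz
      have := mul_mem h3 h2
      rwa [mul_inv_cancel_left] at this
    · intro hy
      exact ⟨y, hy, rfl⟩
  obtain ⟨q, hq⟩ := hc _ _ (key h) (key h')
  obtain ⟨n, rfl⟩ := QuotientGroup.mk'_surjective _ q
  refine ⟨n, ?_⟩
  have hle : EE.cj (n : G) H ≤ N := by
    intro x hx
    rw [mem_cj] at hx
    have h1 := h.nor hx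
    have h2 : x = (n : G) * ((n : G)⁻¹ * x * n) * (n : G)⁻¹ := by group
    rw [h2]
    exact mul_mem (mul_mem n.2 h1) (inv_mem n.2)
  have step : ∀ x : N, (x : G) ∈ EE.cj (n : G) H ↔ (x : G) ∈ H' := by
    intro x
    rw [← mem h' x, ← hq, mem_cj]
    have h1 := mem h (n⁻¹ * x * n)
    rw [show ((n⁻¹ * x * n : N) : G) = (n : G)⁻¹ * x * n from rfl] at h1
    rw [← h1]
    constructor
    · intro h2
      refine ⟨_, h2, ?_⟩
      show π n * π (n⁻¹ * x * n) * (π n)⁻¹ = π x
      rw [map_mul, map_mul, map_inv]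
      group
    · rintro ⟨y, hy, he⟩
      have he' : π n * y * (π n)⁻¹ = π x := he
      have h3 : π (n⁻¹ * x * n) = y := by
        rw [map_mul, map_mul, map_inv, ← he']
        group
      rw [h3]
      exact hy
  ext x
  constructor
  · intro hx
    exact (step ⟨x, hle hx⟩).1 hx
  · intro hx
    exact (step ⟨x, h'.nor hx⟩).2 hx

end

/-! ### The generalized Fitting subgroup -/

theorem Sit.fstar [Finite G] {m : ℕ} {X H : Subgroup G} (h : Sit m X H) (hs : IsSimpleGroup X)
    (hna : ¬ IsMulCommutative X) (hc : centralizer (X : Set G) = ⊥) :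
    generalizedFittingSubgroup H = X.subgroupOf H := by
  have e : X.subgroupOf H ≃* X := subgroupOfEquivOfLe h.le
  have hs' : IsSimpleGroup (X.subgroupOf H) := e.isSimpleGroup
  apply genFit_eq
  · refine ⟨fun n hn g => ?_⟩
    exact (mem_normalizer_iff.1 (h.nor g.2) n).1 hn
  · exact hs'
  · intro hcomm
    apply hna
    refine ⟨⟨fun a b => ?_⟩⟩
    apply e.symm.injective
    rw [map_mul, map_mul]
    exact hcomm.1.1 _ _
  · rw [eq_bot_iff]
    intro y hy
    have h1 : (y : G) ∈ centralizer (X : Set G) := by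
      rw [mem_centralizer_iff]
      intro x hx
      have h2 := (mem_centralizer_iff.1 hy) ⟨x, h.le hx⟩ (mem_subgroupOf.2 hx)
      exact congrArg Subtype.val h2
    rw [hc, mem_bot] at h1
    exact mem_bot.2 (Subtype.ext h1)

theorem sit_of_fstar [Finite G] (H : Subgroup G) :
    Sit (generalizedFittingSubgroup H).index ((generalizedFittingSubgroup H).map H.subtype) H where
  le := map_subtype_le _
  nor := by
    have hn : (generalizedFittingSubgroup H).Normal := Cfsg.Agent.Lib.GenFitting.genFitting_normal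
    intro g hg
    rw [mem_normalizer_iff]
    have key : ∀ g ∈ H, ∀ x ∈ (generalizedFittingSubgroup H).map H.subtype,
        g * x * g⁻¹ ∈ (generalizedFittingSubgroup H).map H.subtype := by
      rintro g hg x ⟨y, hy, rfl⟩
      exact ⟨⟨g, hg⟩ * y * ⟨g, hg⟩⁻¹, hn.conj_mem _ hy _, rfl⟩
    intro x
    constructor
    · exact key g hg x
    · intro hx
      have := key g⁻¹ (inv_mem hg) _ hx
      have e : g⁻¹ * (g * x * g⁻¹) * g⁻¹⁻¹ = x := by group
      rwa [e] at this
  idx := by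
    rw [← relIndex_top_right]
    have := relIndex_map_map_of_injective (generalizedFittingSubgroup H) ⊤ H.subtype_injective
    rwa [← MonoidHom.range_eq_map, range_subtype] at this

/-! ### The main theorem -/

section

variable [Finite G] {Ω : Type v} [Group Ω]

/-- the hypotheses on a representative -/
structure Rep (Ω : Type v) [Group Ω] (n : ℕ) (X : Subgroup G) : Prop where
  iso : Nonempty (X ≃* Ω)
  cen : centralizer (X : Set G) = ⊥
  nor : Nat.card ↥(normalizer (X : Set G)) = n * Nat.card X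

theorem cen_cj {X : Subgroup G} {g : G} (h : centralizer (cj g X : Set G) = ⊥) : centralizer (X : Set G) = ⊥ := by
  rw [eq_bot_iff]
  intro y hy
  have h1 : g * y * g⁻¹ ∈ centralizer (cj g X : Set G) := by
    rw [mem_centralizer_iff]
    rintro x ⟨z, hz, rfl⟩
    have h2 := (mem_centralizer_iff.1 hy) z hz
    show g * z * g⁻¹ * (g * y * g⁻¹) = g * y * g⁻¹ * (g * z * g⁻¹)
    calc g * z * g⁻¹ * (g * y * g⁻¹) = g * (z * y) * g⁻¹ := by group
      _ = g * (y * z) * g⁻¹ := by rw [h2]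
      _ = _ := by group
  rw [h, mem_bot] at h1
  rw [mem_bot]
  have h3 : y = g⁻¹ * (g * y * g⁻¹) * g := by group
  rw [h3, h1]
  group

/-- the data of the two classes -/
structure Two (Ω : Type v) [Group Ω] (X₁ X₂ : Subgroup G) : Prop where
  simple : IsSimpleGroup Ω
  na : ∃ a b : Ω, a * b ≠ b * a
  r1 : Rep Ω 12 X₁
  r2 : Rep Ω 4 X₂
  all : ∀ X : Subgroup G, Nonempty (X ≃* Ω) → (∃ g : G, cj g X = X₁) ∨ ∃ g : G, cj g X = X₂
  ne : ∀ g : G, cj g X₁ ≠ X₂

namespace Two

variable {X₁ X₂ : Subgroup G} (t : Two Ω X₁ X₂)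
include t

theorem cen {X : Subgroup G} (e : Nonempty (X ≃* Ω)) : centralizer (X : Set G) = ⊥ := by
  rcases t.all X e with ⟨g, hg⟩ | ⟨g, hg⟩
  · exact cen_cj (g := g) (by rw [hg]; exact t.r1.cen)
  · exact cen_cj (g := g) (by rw [hg]; exact t.r2.cen)

theorem fstar {m : ℕ} {X H : Subgroup G} (e : Nonempty (X ≃* Ω)) (h : Sit m X H) :
    generalizedFittingSubgroup H = X.subgroupOf H := by
  obtain ⟨f⟩ := e
  have := t.simple
  have hs : IsSimpleGroup X := f.isSimpleGroup
  refine h.fstar hs ?_ (t.cen ⟨f⟩)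
  intro hcomm
  obtain ⟨a, b, hab⟩ := t.na
  apply hab
  have h1 := hcomm.1.1 (f.symm a) (f.symm b)
  have h2 := congrArg f h1
  simpa using h2

/-- the predicate -/
theorem pred_iff {m : ℕ} {H : Subgroup G} : (Nonempty (generalizedFittingSubgroup H ≃* Ω) ∧
    (generalizedFittingSubgroup H).index = m) ↔ ∃ X : Subgroup G, Nonempty (X ≃* Ω) ∧ Sit m X H := by
  constructor
  · rintro ⟨⟨e⟩, rfl⟩
    exact ⟨_, ⟨((generalizedFittingSubgroup H).equivMapOfInjective H.subtype H.subtype_injective).symm.trans e⟩,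
      sit_of_fstar H⟩
  · rintro ⟨X, ⟨e⟩, h⟩
    have h1 := t.fstar ⟨e⟩ h
    rw [h1]
    exact ⟨⟨(subgroupOfEquivOfLe h.le).trans e⟩, h.idx⟩

theorem eq_of_sit {m : ℕ} {X Y H : Subgroup G} (eX : Nonempty (X ≃* Ω)) (eY : Nonempty (Y ≃* Ω)) (hX : Sit m X H)
    (hY : Sit m Y H) : X = Y := by
  have h1 := (t.fstar eX hX).symm.trans (t.fstar eY hY)
  have h2 := congrArg (Subgroup.map H.subtype) h1
  rwa [subgroupOf_map_subtype, subgroupOf_map_subtype, inf_eq_left.2 hX.le, inf_eq_left.2 hY.le] at h2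

/-- the case where only `X₁` counts -/
theorem one {m : ℕ} (h4 : ¬ m ∣ 4) (hex : ∃ K : Subgroup (NQ X₁), Nat.card K = m)
    (hc : ∀ K K' : Subgroup (NQ X₁), Nat.card K = m → Nat.card K' = m →
        ∃ q, K.map (MulAut.conj q).toMonoidHom = K') :
    ∃ H₁ : Subgroup G, (Nonempty (generalizedFittingSubgroup H₁ ≃* Ω) ∧
      (generalizedFittingSubgroup H₁).index = m) ∧ ∀ H : Subgroup G, (Nonempty (generalizedFittingSubgroup H ≃* Ω) ∧
      (generalizedFittingSubgroup H).index = m) → ∃ g : G, cj g H = H₁ := by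
  obtain ⟨K, hK⟩ := hex
  obtain ⟨H₁, h1⟩ := exists_sit K
  rw [hK] at h1
  refine ⟨H₁, t.pred_iff.2 ⟨X₁, t.r1.iso, h1⟩, fun H hH => ?_⟩
  obtain ⟨X, e, hX⟩ := t.pred_iff.1 hH
  rcases t.all X e with ⟨g, hg⟩ | ⟨g, hg⟩
  · have h2 := hX.cj g
    rw [hg] at h2
    obtain ⟨n, hn⟩ := h2.conj h1 hc
    exact ⟨n * g, by rw [← cj_cj, hn]⟩
  · exfalso
    have h2 := hX.cj g
    rw [hg] at h2
    apply h4
    have h3 : m ∣ Nat.card (NQ X₂) := by
      rw [← h2.idx]
      have h5 : X₂.relIndex (cj g H) ∣ X₂.relIndex (normalizer (X₂ : Set G)) := by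
        rw [← relIndex_mul_relIndex X₂ (cj g H) (normalizer (X₂ : Set G)) h2.le h2.nor]
        exact dvd_mul_right _ _
      have h6 : Nat.card (NQ X₂) = X₂.relIndex (normalizer (X₂ : Set G)) := by
        rw [relIndex, index_eq_card]
      rw [h6]; exact h5
    rwa [card_NQ X₂ t.r2.nor] at h3

/-- the case where both count -/
theorem two {m : ℕ} (hex : ∃ K : Subgroup (NQ X₁), Nat.card K = m)
    (hc : ∀ K K' : Subgroup (NQ X₁), Nat.card K = m → Nat.card K' = m →
        ∃ q, K.map (MulAut.conj q).toMonoidHom = K') (hex' : ∃ K : Subgroup (NQ X₂), Nat.card K = m)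
    (hc' : ∀ K K' : Subgroup (NQ X₂), Nat.card K = m → Nat.card K' = m →
        ∃ q, K.map (MulAut.conj q).toMonoidHom = K') :
    ∃ H₁ H₂ : Subgroup G, (Nonempty (generalizedFittingSubgroup H₁ ≃* Ω) ∧
      (generalizedFittingSubgroup H₁).index = m) ∧ (Nonempty (generalizedFittingSubgroup H₂ ≃* Ω) ∧
      (generalizedFittingSubgroup H₂).index = m) ∧ (∀ g, cj g H₁ ≠ H₂) ∧
      ∀ H : Subgroup G, (Nonempty (generalizedFittingSubgroup H ≃* Ω) ∧
      (generalizedFittingSubgroup H).index = m) → (∃ g : G, cj g H = H₁) ∨ ∃ g : G, cj g H = H₂ := by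
  obtain ⟨K, hK⟩ := hex
  obtain ⟨H₁, h1⟩ := exists_sit K
  rw [hK] at h1
  obtain ⟨K', hK'⟩ := hex'
  obtain ⟨H₂, h2⟩ := exists_sit K'
  rw [hK'] at h2
  refine ⟨H₁, H₂, t.pred_iff.2 ⟨X₁, t.r1.iso, h1⟩, t.pred_iff.2 ⟨X₂, t.r2.iso, h2⟩, ?_, fun H hH => ?_⟩
  · intro g hg
    have h3 := h1.cj g
    rw [hg] at h3
    obtain ⟨e⟩ := t.r1.iso
    have e' : Nonempty (cj g X₁ ≃* Ω) := ⟨(X₁.equivMapOfInjective _ (MulAut.conj g).injective).symm.trans e⟩
    exact t.ne g (t.eq_of_sit e' t.r2.iso h3 h2)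
  · obtain ⟨X, e, hX⟩ := t.pred_iff.1 hH
    rcases t.all X e with ⟨g, hg⟩ | ⟨g, hg⟩
    · have h3 := hX.cj g
      rw [hg] at h3
      obtain ⟨n, hn⟩ := h3.conj h1 hc
      exact Or.inl ⟨n * g, by rw [← cj_cj, hn]⟩
    · have h3 := hX.cj g
      rw [hg] at h3
      obtain ⟨n, hn⟩ := h3.conj h2 hc'
      exact Or.inr ⟨n * g, by rw [← cj_cj, hn]⟩

end Two

end

theorem fact_eq {p k n : ℕ} (hp : p.Prime) (hn : n ≠ 0) (h : p ^ k ∣ n) (h' : ¬ p ^ (k + 1) ∣ n) :
    n.factorization p = k := by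
  have h1 := (hp.pow_dvd_iff_le_factorization hn).1 h
  have h2 := mt (hp.pow_dvd_iff_le_factorization hn).2 h'
  omega

/-- **Piece J of S3384.** -/
theorem classes_of {G : Type u} [Group G] [Finite G] {Ω : Type v} [Group Ω] (hs : IsSimpleGroup Ω)
    (hn : ∃ a b : Ω, a * b ≠ b * a) (X₁ X₂ : Subgroup G) (h1 : Nonempty (X₁ ≃* Ω)) (h2 : Nonempty (X₂ ≃* Ω))
    (hcl : ∀ X : Subgroup G, Nonempty (X ≃* Ω) → (∃ g : G, X.map (MulAut.conj g).toMonoidHom = X₁) ∨
      ∃ g : G, X.map (MulAut.conj g).toMonoidHom = X₂)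
    (hne : ∀ g : G, X₁.map (MulAut.conj g).toMonoidHom ≠ X₂)
    (hc1 : Subgroup.centralizer (X₁ : Set G) = ⊥) (hc2 : Subgroup.centralizer (X₂ : Set G) = ⊥)
    (hn1 : Nat.card ↥(Subgroup.normalizer (X₁ : Set G)) = 12 * Nat.card X₁)
    (hn2 : Nat.card ↥(Subgroup.normalizer (X₂ : Set G)) = 4 * Nat.card X₂)
    (classes : (Subgroup G → Prop) → ℕ → Prop)
    (hclasses : ∀ (P : Subgroup G → Prop) (k : ℕ), classes P k ↔
      ∃ f : Fin k → Subgroup G, (∀ i, P (f i)) ∧
        (∀ i j, (∃ g : G, (f i).map (MulAut.conj g).toMonoidHom = f j) → i = j) ∧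
        (∀ H, P H → ∃ (i : Fin k) (g : G), H.map (MulAut.conj g).toMonoidHom = f i)) :
    classes (fun H => Nonempty (H ≃* Ω)) 2 ∧
    classes (fun H => Nonempty (Cfsg.generalizedFittingSubgroup H ≃* Ω) ∧
      (Cfsg.generalizedFittingSubgroup H).index = 3) 1 ∧
    classes (fun H => Nonempty (Cfsg.generalizedFittingSubgroup H ≃* Ω) ∧
      (Cfsg.generalizedFittingSubgroup H).index = 4) 2 ∧
    classes (fun H => Nonempty (Cfsg.generalizedFittingSubgroup H ≃* Ω) ∧
      (Cfsg.generalizedFittingSubgroup H).index = 12) 1 := by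
  have t : Two Ω X₁ X₂ := ⟨hs, hn, ⟨h1, hc1, hn1⟩, ⟨h2, hc2, hn2⟩, hcl, hne⟩
  have two_of : ∀ (P : Subgroup G → Prop) (A B : Subgroup G), P A → P B → (∀ g, cj g A ≠ B) →
      (∀ H, P H → (∃ g, cj g H = A) ∨ ∃ g, cj g H = B) → classes P 2 := by
    intro P A B hA hB hAB hall
    rw [hclasses]
    refine ⟨![A, B], ?_, ?_, ?_⟩
    · intro i; fin_cases i
      · exact hA
      · exact hB
    · intro i j
      fin_cases i <;> fin_cases j
      · intro _; rfl
      · rintro ⟨g, hg⟩
        exact absurd hg (hAB g)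
      · rintro ⟨g, hg⟩
        exfalso
        apply hAB g⁻¹
        have hg' : cj g B = A := hg
        rw [← hg', cj_inv_cj]
      · intro _; rfl
    · intro H hH
      rcases hall H hH with ⟨g, hg⟩ | ⟨g, hg⟩
      · exact ⟨0, g, hg⟩
      · exact ⟨1, g, hg⟩
  have one_of : ∀ (P : Subgroup G → Prop) (A : Subgroup G), P A → (∀ H, P H → ∃ g, cj g H = A) → classes P 1 := by
    intro P A hA hall
    rw [hclasses]
    refine ⟨fun _ => A, fun _ => hA, fun i j _ => Subsingleton.elim _ _, fun H hH => ?_⟩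
    obtain ⟨g, hg⟩ := hall H hH
    exact ⟨0, g, hg⟩
  have c1 := card_NQ X₁ hn1
  have c2 := card_NQ X₂ hn2
  refine ⟨two_of _ X₁ X₂ h1 h2 hne hcl, ?_, ?_, ?_⟩
  · obtain ⟨a, b⟩ := ex_conj (p := 3) (k := 1) Nat.prime_three c1 (fact_eq Nat.prime_three (by norm_num)
      (by norm_num) (by norm_num))
    obtain ⟨H, hH, hall⟩ := t.one (m := 3) (by norm_num) a b
    exact one_of _ H hH hall
  · obtain ⟨a, b⟩ := ex_conj (p := 2) (k := 2) Nat.prime_two c1 (fact_eq Nat.prime_two (by norm_num)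
      (by norm_num) (by norm_num))
    obtain ⟨a', b'⟩ := ex_conj_top c2
    obtain ⟨A, B, hA, hB, hAB, hall⟩ := t.two (m := 4) a b a' b'
    exact two_of _ A B hA hB hAB hall
  · obtain ⟨a, b⟩ := ex_conj_top c1
    obtain ⟨H, hH, hall⟩ := t.one (m := 12) (by norm_num) a b
    exact one_of _ H hH hall

end Cfsg.Agent.H96.EE
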